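import Groth.Agent.SchDescZarLib.Refine
import Groth.Agent.SchDesc.FullFaith

/-!
# Pullback along a refinement by open covers is an equivalence
-/

set_option autoImplicit false
set_option linter.style.haveILetI false
universe u
open CategoryTheory CategoryTheory.Limits AlgebraicGeometry

namespace Groth.Agent.SchDescZarLib

open _root_.Desc

variable {ι κ : Type u} {S : Scheme.{u}} {U : ι → Scheme.{u}} {V : κ → Scheme.{u}}
  (u' : ∀ i, U i ⟶ S) (v' : ∀ j, V j ⟶ S) (α : ι → κ) (g : ∀ i, U i ⟶ V (α i))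
  (w : ∀ i, g i ≫ v' (α i) = u' i ≫ 𝟙 S)

/-- The members over a given index, as a family on it. -/
noncomputable def gOver (j : κ) (k : Over' α j) : U k.1 ⟶ V j := g k.1 ≫ eqToHom (congrArg V k.2)

theorem gOver_rfl (i : ι) : gOver (V := V) α g (α i) ⟨i, rfl⟩ = g i := Category.comp_id _

include w in
theorem gOver_w (j : κ) (k : Over' α j) : gOver α g j k ≫ v' j = u' k.1 := by
  obtain ⟨i, rfl⟩ := k
  rw [gOver_rfl, w, Category.comp_id]

/-- Pullback along a refinement by open covers is an equivalence. -/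
theorem pull_isEquivalence
    (hcov : ∀ j, Presieve.ofArrows (fun k : Over' α j => U k.1) (gOver α g j) ∈ Scheme.zariskiPrecoverage (V j)) :
    (pullDDFam (f := v') (f' := u') (α := α) (p := 𝟙 S) (p' := g) w).IsEquivalence := by
  have h2 := fun j => Scheme.presieve₀_mem_precoverage_iff (P := @IsOpenImmersion)
    (E := ({ I₀ := Over' α j, X := fun k => U k.1, f := gOver α g j } : PreZeroHypercover.{u} (V j))) |>.mp (hcov j)
  have ho : ∀ j k, IsOpenImmersion (gOver α g j k) := fun j k => (h2 j).2 k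
  have hc : ∀ (j : κ) (x : V j), ∃ k, x ∈ Set.range (gOver α g j k) := fun j x => (h2 j).1 x
  have hl : Groth.Agent.SchDesc.LocallyLifts u' v' := fun j T x =>
    ⟨Over' α j, fun k => pullback x (gOver α g j k), fun k => pullback.fst _ _, Subtype.val,
      fun k => pullback.snd _ _,
      Scheme.zariskiPrecoverage_le_fpqcPrecoverage _ (Precoverage.mem_coverings_of_isPullback _ (hcov j) x _
        (fun k => pullback.snd _ _) fun k => IsPullback.of_hasPullback _ _),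
      fun k => by rw [← gOver_w u' v' α g w j k, ← Category.assoc, ← pullback.condition]⟩
  haveI := Groth.Agent.SchDesc.pull_full (u' := u') (v' := v') w hl
  haveI := Groth.Agent.SchDesc.pull_faithful (u' := u') (v' := v') w hl
  suffices (pullDDFam (f := v') (f' := u') (α := α) (p := 𝟙 S) (p' := g) w).EssSurj from ⟨‹_›, ‹_›, this⟩
  refine ⟨fun E => ?_⟩
  have wj := gOver_w u' v' α g w
  obtain ⟨M⟩ := exists_model (gj := gOver α g) E ho hc wj
  let D := glued wj M ho hc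
  let F := pullDDFam (f := v') (f' := u') (α := α) (p := 𝟙 S) (p' := g) w
  have hsnd : ∀ i, pullback.snd (M.W (α i)).hom (g i) ≫ gOver α g (α i) ⟨i, rfl⟩ =
      pullback.snd (M.W (α i)).hom (g i) ≫ g i := fun i => by rw [gOver_rfl]
  let pt : ∀ i, Lifts (M.W (α i)) (pullback.snd (M.W (α i)).hom (g i) ≫ g i) := fun i =>
    ⟨pullback.fst _ _, pullback.condition⟩
  let a : ∀ i, Lifts (E.obj i) (pullback.snd (M.W (α i)).hom (g i)) := fun i =>
    M.θ ⟨i, rfl⟩ _ _ (hsnd i) (pt i)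
  have ha : ∀ {T : Scheme.{u}} (i : ι) (v : T ⟶ pullback (M.W (α i)).hom (g i)) (y : T ⟶ U i)
      (_ : v ≫ pullback.snd _ _ = y) (h : y ≫ gOver α g (α i) ⟨i, rfl⟩ = y ≫ g i)
      (z : Lifts (M.W (α i)) (y ≫ g i)), z.1 = v ≫ pullback.fst _ _ →
      v ≫ (a i).1 = (M.θ ⟨i, rfl⟩ y (y ≫ g i) h z).1 := fun i v y hy h z hz =>
    (M.nat v (⟨i, rfl⟩ : Over' α (α i)) _ _ (hsnd i) y _ hy (by rw [← hy, Category.assoc]) h (pt i) z hz).symm
  let hid : ∀ i, (E.obj i).hom ≫ gOver α g (α i) ⟨i, rfl⟩ = (E.obj i).hom ≫ g i := fun i => by rw [gOver_rfl]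
  let b₀ : ∀ i, Lifts (M.W (α i)) ((E.obj i).hom ≫ g i) := fun i =>
    (M.θ ⟨i, rfl⟩ _ _ (hid i)).symm ⟨𝟙 _, Category.id_comp _⟩
  let b : ∀ i, (E.obj i).left ⟶ pullback (M.W (α i)).hom (g i) := fun i =>
    pullback.lift (b₀ i).1 (E.obj i).hom (b₀ i).2
  have hab : ∀ i, b i ≫ (a i).1 = 𝟙 _ := fun i => by
    rw [ha i (b i) _ (pullback.lift_snd _ _ _) (hid i) (b₀ i) (pullback.lift_fst _ _ _).symm,
      Equiv.apply_symm_apply]
  have hba : ∀ i, (a i).1 ≫ b i = 𝟙 _ := fun i => by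
    apply pullback.hom_ext
    · rw [Category.assoc, pullback.lift_fst, Category.id_comp]
      let z : Lifts (M.W (α i)) (pullback.snd (M.W (α i)).hom (g i) ≫ g i) :=
        ⟨(a i).1 ≫ (b₀ i).1, by rw [Category.assoc, (b₀ i).2, ← Category.assoc, (a i).2]⟩
      suffices z = pt i from congrArg Subtype.val this
      apply (M.θ ⟨i, rfl⟩ _ _ (hsnd i)).injective
      refine Subtype.ext ((M.nat (a i).1 (⟨i, rfl⟩ : Over' α (α i)) _ _ (hid i) _ _ (a i).2
        (by rw [← Category.assoc, (a i).2]) (hsnd i) (b₀ i) z rfl).trans ?_)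
      rw [Equiv.apply_symm_apply, Category.comp_id]
    · rw [Category.assoc, pullback.lift_snd, (a i).2, Category.id_comp]
  let A : F.obj D ⟶ E := ⟨fun i => Over.homMk (a i).1 (a i).2, fun T i j y₀ y₁ h v e he => by
    change e.1 = v.1 ≫ (a i).1 at he
    have hv : v.1 ≫ pullback.snd (M.W (α i)).hom (g i) = y₀ := v.2
    let zi : Lifts (M.W (α i)) (y₀ ≫ g i) :=
      ⟨v.1 ≫ pullback.fst _ _, (Category.assoc _ _ _).trans ((congrArg (v.1 ≫ ·) pullback.condition).trans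
        ((Category.assoc _ _ _).symm.trans (congrArg (· ≫ g i) hv)))⟩
    have h₀ : y₀ ≫ gOver α g (α i) ⟨i, rfl⟩ = y₀ ≫ g i := by rw [gOver_rfl]
    have h₁ : y₁ ≫ gOver α g (α j) ⟨j, rfl⟩ = y₁ ≫ g j := by rw [gOver_rfl]
    have e0 : e = M.θ ⟨i, rfl⟩ y₀ _ h₀ zi := Subtype.ext (he.trans (ha i v.1 y₀ hv h₀ zi rfl))
    let zj : Lifts (M.W (α j)) (y₁ ≫ g j) := D.φ _ _ (pull_compat w y₀ y₁ h) zi
    show (E.φ y₀ y₁ h e).1 = pullback.lift zj.1 y₁ zj.2 ≫ (a j).1
    rw [ha j _ y₁ (pullback.lift_snd _ _ _) h₁ zj (pullback.lift_fst _ _ _).symm]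
    have hz : zj = loc wj M (k₀ := (⟨i, rfl⟩ : Over' α (α i))) (k₁ := (⟨j, rfl⟩ : Over' α (α j))) y₀ y₁
        (pull_compat w y₀ y₁ h) h₀ h₁ zi := by
      refine Subtype.ext ?_
      have := glue_spec wj M ho hc _ _ (pull_compat w y₀ y₁ h) zi (𝟙 T) ⟨i, rfl⟩ ⟨j, rfl⟩ _ _
        (Category.id_comp _) (Category.id_comp _) y₀ y₁ (pull_compat w y₀ y₁ h) h₀ h₁ zi (Category.id_comp _).symm
      rw [Category.id_comp] at this
      exact this
    rw [hz, loc, Equiv.apply_symm_apply, e0]⟩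
  let B : E ⟶ F.obj D := ⟨fun i => Over.homMk (b i) (pullback.lift_snd _ _ _), fun T i j y₀ y₁ h e v hv => by
    change v.1 = e.1 ≫ b i at hv
    have h1 : (E.φ y₀ y₁ h e).1 = ((F.obj D).φ y₀ y₁ h v).1 ≫ (a j).1 :=
      A.comm y₀ y₁ h v e (by
        show e.1 = v.1 ≫ (a i).1
        exact ((congrArg (· ≫ (a i).1) hv).trans ((Category.assoc _ _ _).trans
          ((congrArg (e.1 ≫ ·) (hab i)).trans (Category.comp_id _)))).symm)
    show _ = (E.φ y₀ y₁ h e).1 ≫ b j
    rw [h1]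
    exact ((Category.assoc _ _ _).trans ((congrArg (_ ≫ ·) (hba j)).trans (Category.comp_id _))).symm⟩
  exact ⟨D, ⟨⟨A, B, SchDDFam.hom_ext (funext fun i => Over.OverMorphism.ext (hba i)),
    SchDDFam.hom_ext (funext fun i => Over.OverMorphism.ext (hab i))⟩⟩⟩

end Groth.Agent.SchDescZarLib
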