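import Groth.Agent.SchDescZarLib.Zariski

/-!
# Descent data descend along refinements by open covers
-/

set_option autoImplicit false
set_option linter.style.haveILetI false
universe u
open CategoryTheory CategoryTheory.Limits AlgebraicGeometry

namespace Groth.Agent.SchDescZarLib

open _root_.Desc

variable {ι κ : Type u} {S : Scheme.{u}} {U : ι → Scheme.{u}} {V : κ → Scheme.{u}}
  {u' : ∀ i, U i ⟶ S} {v' : ∀ j, V j ⟶ S} {α : ι → κ}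

/-- The members over a given index. -/
abbrev Over' (α : ι → κ) (j : κ) : Type u := {i : ι // α i = j}

variable (gj : ∀ (j : κ) (k : Over' α j), U k.1 ⟶ V j)
  (wj : ∀ j (k : Over' α j), gj j k ≫ v' j = u' k.1)
  (E : SchDDFam u')

variable (u' v') in
/-- The data needed to glue: schemes over the `V j` with comparisons on points. -/
structure Model where
  /-- the schemes -/
  W : ∀ j, Over (V j)
  /-- comparison on points -/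
  θ : ∀ ⦃T : Scheme.{u}⦄ ⦃j : κ⦄ (k : Over' α j) (y : T ⟶ U k.1) (x : T ⟶ V j), y ≫ gj j k = x →
    (Lifts (W j) x ≃ Lifts (E.obj k.1) y)
  nat : ∀ ⦃T T' : Scheme.{u}⦄ (r : T' ⟶ T) ⦃j : κ⦄ (k : Over' α j) (y : T ⟶ U k.1) (x : T ⟶ V j)
    (h : y ≫ gj j k = x) (y' : T' ⟶ U k.1) (x' : T' ⟶ V j) (_ : r ≫ y = y') (_ : r ≫ x = x')
    (h' : y' ≫ gj j k = x') (w : Lifts (W j) x) (w' : Lifts (W j) x'),
    w'.1 = r ≫ w.1 → (θ k y' x' h' w').1 = r ≫ (θ k y x h w).1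
  compat : ∀ ⦃T : Scheme.{u}⦄ ⦃j : κ⦄ (k k' : Over' α j) (y : T ⟶ U k.1) (y' : T ⟶ U k'.1) (x : T ⟶ V j)
    (h : y ≫ gj j k = x) (h' : y' ≫ gj j k' = x) (hu : y ≫ u' k.1 = y' ≫ u' k'.1) (w : Lifts (W j) x),
    E.φ y y' hu (θ k y x h w) = θ k' y' x h' w

variable {gj E} (M : Model u' gj E) (ho : ∀ j k, IsOpenImmersion (gj j k))
  (hcov : ∀ (j : κ) (x : V j), ∃ k, x ∈ Set.range (gj j k))

include wj in
theorem hu_of {T : Scheme.{u}} {j₀ j₁ : κ} {k₀ : Over' α j₀} {k₁ : Over' α j₁} {x₀ : T ⟶ V j₀}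
    {x₁ : T ⟶ V j₁} {y₀ : T ⟶ U k₀.1} {y₁ : T ⟶ U k₁.1} (h : x₀ ≫ v' j₀ = x₁ ≫ v' j₁)
    (h₀ : y₀ ≫ gj j₀ k₀ = x₀) (h₁ : y₁ ≫ gj j₁ k₁ = x₁) : y₀ ≫ u' k₀.1 = y₁ ≫ u' k₁.1 := by
  rw [← wj j₀ k₀, ← wj j₁ k₁, reassoc_of% h₀, reassoc_of% h₁, h]

/-- The local gluing map. -/
noncomputable def loc {T : Scheme.{u}} {j₀ j₁ : κ} {k₀ : Over' α j₀} {k₁ : Over' α j₁} {x₀ : T ⟶ V j₀}
    {x₁ : T ⟶ V j₁} (y₀ : T ⟶ U k₀.1) (y₁ : T ⟶ U k₁.1) (h : x₀ ≫ v' j₀ = x₁ ≫ v' j₁)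
    (h₀ : y₀ ≫ gj j₀ k₀ = x₀) (h₁ : y₁ ≫ gj j₁ k₁ = x₁) (w : Lifts (M.W j₀) x₀) : Lifts (M.W j₁) x₁ :=
  (M.θ k₁ y₁ x₁ h₁).symm (E.φ y₀ y₁ (hu_of wj h h₀ h₁) (M.θ k₀ y₀ x₀ h₀ w))

theorem loc_indep {T : Scheme.{u}} {j₀ j₁ : κ} {k₀ k₀' : Over' α j₀} {k₁ k₁' : Over' α j₁} {x₀ : T ⟶ V j₀}
    {x₁ : T ⟶ V j₁} (y₀ : T ⟶ U k₀.1) (y₁ : T ⟶ U k₁.1) (y₀' : T ⟶ U k₀'.1) (y₁' : T ⟶ U k₁'.1)
    (h : x₀ ≫ v' j₀ = x₁ ≫ v' j₁) (h₀ : y₀ ≫ gj j₀ k₀ = x₀) (h₁ : y₁ ≫ gj j₁ k₁ = x₁)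
    (h₀' : y₀' ≫ gj j₀ k₀' = x₀) (h₁' : y₁' ≫ gj j₁ k₁' = x₁) (w : Lifts (M.W j₀) x₀) :
    loc wj M y₀ y₁ h h₀ h₁ w = loc wj M y₀' y₁' h h₀' h₁' w := by
  simp only [loc]
  apply (M.θ k₁' y₁' x₁ h₁').injective
  rw [Equiv.apply_symm_apply, ← M.compat k₁ k₁' y₁ y₁' x₁ h₁ h₁' (hu_of wj rfl h₁ h₁'),
    Equiv.apply_symm_apply, ← M.compat k₀ k₀' y₀ y₀' x₀ h₀ h₀' (hu_of wj rfl h₀ h₀'), E.φ_comp, E.φ_comp]

theorem loc_nat {T T' : Scheme.{u}} (r : T' ⟶ T) {j₀ j₁ : κ} {k₀ : Over' α j₀} {k₁ : Over' α j₁}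
    {x₀ : T ⟶ V j₀} {x₁ : T ⟶ V j₁} (y₀ : T ⟶ U k₀.1) (y₁ : T ⟶ U k₁.1) (h : x₀ ≫ v' j₀ = x₁ ≫ v' j₁)
    (h₀ : y₀ ≫ gj j₀ k₀ = x₀) (h₁ : y₁ ≫ gj j₁ k₁ = x₁) (w : Lifts (M.W j₀) x₀)
    {x₀' : T' ⟶ V j₀} {x₁' : T' ⟶ V j₁} (e₀ : r ≫ x₀ = x₀') (e₁ : r ≫ x₁ = x₁')
    (y₀' : T' ⟶ U k₀.1) (y₁' : T' ⟶ U k₁.1) (h' : x₀' ≫ v' j₀ = x₁' ≫ v' j₁)
    (h₀' : y₀' ≫ gj j₀ k₀ = x₀') (h₁' : y₁' ≫ gj j₁ k₁ = x₁') (d₀ : r ≫ y₀ = y₀') (d₁ : r ≫ y₁ = y₁')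
    (w' : Lifts (M.W j₀) x₀') (hw : w'.1 = r ≫ w.1) :
    (loc wj M y₀' y₁' h' h₀' h₁' w').1 = r ≫ (loc wj M y₀ y₁ h h₀ h₁ w).1 := by
  let z : Lifts (M.W j₁) x₁' := ⟨r ≫ (loc wj M y₀ y₁ h h₀ h₁ w).1, by
    rw [Category.assoc, (loc wj M y₀ y₁ h h₀ h₁ w).2, e₁]⟩
  suffices loc wj M y₀' y₁' h' h₀' h₁' w' = z from congrArg Subtype.val this
  apply (M.θ k₁ y₁' x₁' h₁').injective
  rw [loc, Equiv.apply_symm_apply]
  refine Subtype.ext ?_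
  rw [M.nat r k₁ y₁ x₁ h₁ y₁' x₁' d₁ e₁ h₁' _ z rfl, loc, Equiv.apply_symm_apply]
  exact E.φ_natural r y₀ y₁ _ y₀' y₁' d₀ d₁ _ _ _ (M.nat r k₀ y₀ x₀ h₀ y₀' x₀' d₀ e₀ h₀' w w' hw)

include ho in
theorem exists_lift_of_range {T : Scheme.{u}} {j : κ} (x : T ⟶ V j) (k : Over' α j)
    (h : ∀ t, x t ∈ Set.range (gj j k)) : ∃ y : T ⟶ U k.1, y ≫ gj j k = x := by
  haveI := ho j k
  exact ⟨IsOpenImmersion.lift (gj j k) x (Set.range_subset_iff.mpr h), IsOpenImmersion.lift_fac _ _ _⟩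

include ho hcov in
/-- Morphisms agreeing wherever a point lifts agree. -/
theorem local_ext {T : Scheme.{u}} {j : κ} (x : T ⟶ V j) {Z : Scheme.{u}} {a b : T ⟶ Z}
    (H : ∀ (R : Scheme.{u}) (r : R ⟶ T) (k : Over' α j) (y : R ⟶ U k.1), y ≫ gj j k = r ≫ x → r ≫ a = r ≫ b) :
    a = b := by
  let 𝒰 : T.OpenCover := T.openCoverOfIsOpenCover
    (fun k : Over' α j => haveI := ho j k; x ⁻¹ᵁ (gj j k).opensRange) (top_le_iff.mp fun t _ => by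
      obtain ⟨k, hk⟩ := hcov j (x t)
      exact TopologicalSpace.Opens.mem_iSup.mpr ⟨k, hk⟩)
  refine 𝒰.hom_ext _ _ fun (k : Over' α j) => ?_
  obtain ⟨y, hy⟩ := exists_lift_of_range ho (𝒰.f k ≫ x) k (fun t => by
    rw [Scheme.Hom.comp_apply]
    exact t.2)
  exact H _ _ k y hy

/-- The open on which a pair of points lifts to given members. -/
noncomputable def piece {T : Scheme.{u}} {j₀ j₁ : κ} (x₀ : T ⟶ V j₀) (x₁ : T ⟶ V j₁)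
    (k : Over' α j₀ × Over' α j₁) : T.Opens :=
  haveI := ho j₀ k.1
  haveI := ho j₁ k.2
  x₀ ⁻¹ᵁ (gj j₀ k.1).opensRange ⊓ x₁ ⁻¹ᵁ (gj j₁ k.2).opensRange

include ho hcov in
theorem exists_glue {T : Scheme.{u}} {j₀ j₁ : κ} (x₀ : T ⟶ V j₀) (x₁ : T ⟶ V j₁)
    (h : x₀ ≫ v' j₀ = x₁ ≫ v' j₁) (w : Lifts (M.W j₀) x₀) :
    ∃ z : Lifts (M.W j₁) x₁, ∀ ⦃R : Scheme.{u}⦄ (r : R ⟶ T) (k₀ : Over' α j₀) (k₁ : Over' α j₁)
      (x₀' : R ⟶ V j₀) (x₁' : R ⟶ V j₁) (_ : r ≫ x₀ = x₀') (_ : r ≫ x₁ = x₁')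
      (y₀ : R ⟶ U k₀.1) (y₁ : R ⟶ U k₁.1) (h' : x₀' ≫ v' j₀ = x₁' ≫ v' j₁)
      (h₀ : y₀ ≫ gj j₀ k₀ = x₀') (h₁ : y₁ ≫ gj j₁ k₁ = x₁') (w' : Lifts (M.W j₀) x₀'), w'.1 = r ≫ w.1 →
      r ≫ z.1 = (loc wj M y₀ y₁ h' h₀ h₁ w').1 := by
  let 𝒰 : T.OpenCover := T.openCoverOfIsOpenCover (piece ho x₀ x₁) (top_le_iff.mp fun t _ => by
    obtain ⟨k₀, hk₀⟩ := hcov j₀ (x₀ t)
    obtain ⟨k₁, hk₁⟩ := hcov j₁ (x₁ t)
    exact TopologicalSpace.Opens.mem_iSup.mpr ⟨(k₀, k₁), hk₀, hk₁⟩)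
  choose a ha using fun k : Over' α j₀ × Over' α j₁ =>
    exists_lift_of_range ho ((piece ho x₀ x₁ k).ι ≫ x₀) k.1 fun t => by
      rw [Scheme.Hom.comp_apply]; exact t.2.1
  choose b hb using fun k : Over' α j₀ × Over' α j₁ =>
    exists_lift_of_range ho ((piece ho x₀ x₁ k).ι ≫ x₁) k.2 fun t => by
      rw [Scheme.Hom.comp_apply]; exact t.2.2
  let res : ∀ {R : Scheme.{u}} (r : R ⟶ T), Lifts (M.W j₀) (r ≫ x₀) := fun r =>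
    ⟨r ≫ w.1, by rw [Category.assoc, w.2]⟩
  have hh : ∀ {R : Scheme.{u}} (r : R ⟶ T), (r ≫ x₀) ≫ v' j₀ = (r ≫ x₁) ≫ v' j₁ := fun r => by
    rw [Category.assoc, Category.assoc, h]
  let z₀ : ∀ k : Over' α j₀ × Over' α j₁, (piece ho x₀ x₁ k : Scheme.{u}) ⟶ (M.W j₁).left := fun k =>
    (loc wj M (a k) (b k) (hh _) (ha k) (hb k) (res _)).1
  have key : ∀ (k : Over' α j₀ × Over' α j₁) {R : Scheme.{u}} (r : R ⟶ (piece ho x₀ x₁ k : Scheme.{u}))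
      (g : R ⟶ T) (_ : r ≫ (piece ho x₀ x₁ k).ι = g) {k₀ : Over' α j₀} {k₁ : Over' α j₁}
      {x₀' : R ⟶ V j₀} {x₁' : R ⟶ V j₁} (_ : g ≫ x₀ = x₀') (_ : g ≫ x₁ = x₁')
      (y₀ : R ⟶ U k₀.1) (y₁ : R ⟶ U k₁.1) (h' : x₀' ≫ v' j₀ = x₁' ≫ v' j₁) (h₀ : y₀ ≫ gj j₀ k₀ = x₀')
      (h₁ : y₁ ≫ gj j₁ k₁ = x₁') (w' : Lifts (M.W j₀) x₀'), w'.1 = g ≫ w.1 →
      r ≫ z₀ k = (loc wj M y₀ y₁ h' h₀ h₁ w').1 := by
    intro k R r g hg k₀ k₁ x₀' x₁' e₀ e₁ y₀ y₁ h' h₀ h₁ w' hw'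
    rw [loc_indep wj M y₀ y₁ (r ≫ a k) (r ≫ b k) h' h₀ h₁
      (by rw [Category.assoc, ha, ← Category.assoc, hg, e₀]) (by rw [Category.assoc, hb, ← Category.assoc, hg, e₁]) w']
    exact (loc_nat wj M r (a k) (b k) (hh _) (ha k) (hb k) (res _)
      (by rw [← Category.assoc, hg, e₀]) (by rw [← Category.assoc, hg, e₁]) _ _ h' _ _ rfl rfl w'
      (by rw [hw', ← hg, Category.assoc])).symm
  have hcompat : ∀ k l, pullback.fst (𝒰.f k) (𝒰.f l) ≫ z₀ k = pullback.snd (𝒰.f k) (𝒰.f l) ≫ z₀ l := by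
    intro k l
    let r' : _ ⟶ (piece ho x₀ x₁ l : Scheme.{u}) := pullback.snd (𝒰.f k) (𝒰.f l)
    have hw : (res (r' ≫ (piece ho x₀ x₁ l).ι)).1 = (r' ≫ (piece ho x₀ x₁ l).ι) ≫ w.1 := rfl
    exact (key k _ _ pullback.condition rfl rfl (r' ≫ a l) (r' ≫ b l) (hh _)
      (by rw [Category.assoc, ha]; exact (Category.assoc _ _ _).symm)
      (by rw [Category.assoc, hb]; exact (Category.assoc _ _ _).symm) (res _) hw).trans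
      (key l r' _ rfl rfl rfl (r' ≫ a l) (r' ≫ b l) (hh _)
      (by rw [Category.assoc, ha]; exact (Category.assoc _ _ _).symm)
      (by rw [Category.assoc, hb]; exact (Category.assoc _ _ _).symm) (res _) hw).symm
  refine ⟨⟨𝒰.glueMorphisms z₀ hcompat, 𝒰.hom_ext _ _ fun k => ?_⟩, ?_⟩
  · rw [Scheme.Cover.ι_glueMorphisms_assoc]
    exact (loc wj M (a k) (b k) (hh _) (ha k) (hb k) (res _)).2
  · intro R r k₀ k₁ x₀' x₁' e₀ e₁ y₀ y₁ h' h₀ h₁ w' hw'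
    refine Scheme.Cover.hom_ext (𝒰.pullback₁ r) _ _ fun k => ?_
    show pullback.fst r (𝒰.f k) ≫ r ≫ _ = pullback.fst r (𝒰.f k) ≫ _
    rw [pullback.condition_assoc, Scheme.Cover.ι_glueMorphisms]
    let q := pullback.fst r (𝒰.f k)
    have hq : (q ≫ x₀') ≫ v' j₀ = (q ≫ x₁') ≫ v' j₁ := by rw [Category.assoc, Category.assoc, h']
    refine (key k _ (q ≫ r) pullback.condition.symm (by rw [Category.assoc, e₀]) (by rw [Category.assoc, e₁])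
      (q ≫ y₀) (q ≫ y₁) hq (by rw [Category.assoc, h₀]) (by rw [Category.assoc, h₁])
      ⟨q ≫ w'.1, by rw [Category.assoc, w'.2]⟩ (by show q ≫ w'.1 = _; rw [hw', Category.assoc])).trans ?_
    exact loc_nat wj M q y₀ y₁ h' h₀ h₁ w' rfl rfl _ _ hq _ _ rfl rfl _ rfl

/-- The gluing map. -/
noncomputable def glue {T : Scheme.{u}} {j₀ j₁ : κ} (x₀ : T ⟶ V j₀) (x₁ : T ⟶ V j₁)
    (h : x₀ ≫ v' j₀ = x₁ ≫ v' j₁) (w : Lifts (M.W j₀) x₀) : Lifts (M.W j₁) x₁ :=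
  (exists_glue wj M ho hcov x₀ x₁ h w).choose

theorem glue_spec {T : Scheme.{u}} {j₀ j₁ : κ} (x₀ : T ⟶ V j₀) (x₁ : T ⟶ V j₁)
    (h : x₀ ≫ v' j₀ = x₁ ≫ v' j₁) (w : Lifts (M.W j₀) x₀) ⦃R : Scheme.{u}⦄ (r : R ⟶ T)
    (k₀ : Over' α j₀) (k₁ : Over' α j₁) (x₀' : R ⟶ V j₀) (x₁' : R ⟶ V j₁) (e₀ : r ≫ x₀ = x₀')
    (e₁ : r ≫ x₁ = x₁') (y₀ : R ⟶ U k₀.1) (y₁ : R ⟶ U k₁.1) (h' : x₀' ≫ v' j₀ = x₁' ≫ v' j₁)
    (h₀ : y₀ ≫ gj j₀ k₀ = x₀') (h₁ : y₁ ≫ gj j₁ k₁ = x₁') (w' : Lifts (M.W j₀) x₀') (hw : w'.1 = r ≫ w.1) :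
    r ≫ (glue wj M ho hcov x₀ x₁ h w).1 = (loc wj M y₀ y₁ h' h₀ h₁ w').1 :=
  (exists_glue wj M ho hcov x₀ x₁ h w).choose_spec r k₀ k₁ x₀' x₁' e₀ e₁ y₀ y₁ h' h₀ h₁ w' hw

theorem glue_self {T : Scheme.{u}} {j : κ} (x : T ⟶ V j) (w : Lifts (M.W j) x) :
    glue wj M ho hcov x x rfl w = w := by
  refine Subtype.ext (local_ext ho hcov x fun R r k y hy => ?_)
  rw [glue_spec wj M ho hcov x x rfl w r k k _ _ rfl rfl y y rfl hy hy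
    ⟨r ≫ w.1, by rw [Category.assoc, w.2]⟩ rfl, loc, E.φ_self, Equiv.symm_apply_apply]

theorem glue_comp {T : Scheme.{u}} {j₀ j₁ j₂ : κ} (x₀ : T ⟶ V j₀) (x₁ : T ⟶ V j₁) (x₂ : T ⟶ V j₂)
    (h : x₀ ≫ v' j₀ = x₁ ≫ v' j₁) (h₂ : x₁ ≫ v' j₁ = x₂ ≫ v' j₂) (w : Lifts (M.W j₀) x₀) :
    glue wj M ho hcov x₁ x₂ h₂ (glue wj M ho hcov x₀ x₁ h w) = glue wj M ho hcov x₀ x₂ (h.trans h₂) w := by
  refine Subtype.ext (local_ext ho hcov x₀ fun R r k₀ y₀ hy₀ => ?_)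
  refine local_ext ho hcov (r ≫ x₁) fun R' r' k₁ y₁ hy₁ => ?_
  refine local_ext ho hcov (r' ≫ r ≫ x₂) fun R'' r'' k₂ y₂ hy₂ => ?_
  simp only [← Category.assoc]
  let q := (r'' ≫ r') ≫ r
  have hy₀' : ((r'' ≫ r') ≫ y₀) ≫ gj j₀ k₀ = q ≫ x₀ := by
    simp only [q, Category.assoc, hy₀]
  have hy₁' : (r'' ≫ y₁) ≫ gj j₁ k₁ = q ≫ x₁ := by
    simp only [q, Category.assoc, hy₁]
  have hy₂' : y₂ ≫ gj j₂ k₂ = q ≫ x₂ := by
    simp only [q, Category.assoc, hy₂]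
  have hq : (q ≫ x₀) ≫ v' j₀ = (q ≫ x₁) ≫ v' j₁ := by simp only [Category.assoc, h]
  have hq' : (q ≫ x₁) ≫ v' j₁ = (q ≫ x₂) ≫ v' j₂ := by simp only [Category.assoc, h₂]
  let w₀ : Lifts (M.W j₀) (q ≫ x₀) := ⟨q ≫ w.1, by rw [Category.assoc, w.2]⟩
  show q ≫ _ = q ≫ _
  rw [glue_spec wj M ho hcov x₁ x₂ h₂ _ q k₁ k₂ _ _ rfl rfl (r'' ≫ y₁) y₂ hq' hy₁' hy₂'
      (loc wj M ((r'' ≫ r') ≫ y₀) (r'' ≫ y₁) hq hy₀' hy₁' w₀)
      (glue_spec wj M ho hcov x₀ x₁ h w q k₀ k₁ _ _ rfl rfl _ _ hq hy₀' hy₁' w₀ rfl).symm,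
    glue_spec wj M ho hcov x₀ x₂ (h.trans h₂) w q k₀ k₂ _ _ rfl rfl _ y₂ (hq.trans hq') hy₀' hy₂' w₀ rfl]
  simp only [loc, Equiv.apply_symm_apply, E.φ_comp]

/-- The glued descent datum. -/
noncomputable def glued : SchDDFam v' where
  obj := M.W
  φ T j₀ j₁ x₀ x₁ h :=
    { toFun := glue wj M ho hcov x₀ x₁ h
      invFun := glue wj M ho hcov x₁ x₀ h.symm
      left_inv := fun w => by rw [glue_comp, glue_self]
      right_inv := fun w => by rw [glue_comp, glue_self] }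
  φ_natural T T' g j₀ j₁ x₀ x₁ h z₀ z₁ hz₀ hz₁ h' w w' hw := by
    refine local_ext ho hcov z₀ fun R r k₀ y₀ hy₀ => ?_
    refine local_ext ho hcov (r ≫ z₁) fun R' r' k₁ y₁ hy₁ => ?_
    let q := r' ≫ r
    have hy₀' : (r' ≫ y₀) ≫ gj j₀ k₀ = q ≫ z₀ := by simp only [q, Category.assoc, hy₀]
    have hy₁' : y₁ ≫ gj j₁ k₁ = q ≫ z₁ := by simp only [q, Category.assoc, hy₁]
    have hq : (q ≫ z₀) ≫ v' j₀ = (q ≫ z₁) ≫ v' j₁ := by simp only [Category.assoc, h']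
    let w₀ : Lifts (M.W j₀) (q ≫ z₀) := ⟨q ≫ w'.1, by rw [Category.assoc, w'.2]⟩
    show r' ≫ r ≫ (glue wj M ho hcov z₀ z₁ h' w').1 = r' ≫ r ≫ g ≫ (glue wj M ho hcov x₀ x₁ h w).1
    simp only [← Category.assoc]
    rw [glue_spec wj M ho hcov z₀ z₁ h' w' q k₀ k₁ _ _ rfl rfl _ y₁ hq hy₀' hy₁' w₀ rfl,
      glue_spec wj M ho hcov x₀ x₁ h w (q ≫ g) k₀ k₁ (q ≫ z₀) (q ≫ z₁) (by rw [Category.assoc, hz₀])
        (by rw [Category.assoc, hz₁]) _ y₁ hq hy₀' hy₁' w₀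
        (by show q ≫ w'.1 = _; simp only [hw, q, Category.assoc])]
  φ_self T j x w := glue_self wj M ho hcov x w
  φ_comp T j₀ j₁ j₂ x₀ x₁ x₂ h h₂ w := glue_comp wj M ho hcov x₀ x₁ x₂ h h₂ w

/-- A model exists, by effectivity of open covers. -/
theorem exists_model (E : SchDDFam u') (ho : ∀ j k, IsOpenImmersion (gj j k))
    (hcov : ∀ (j : κ) (x : V j), ∃ k, x ∈ Set.range (gj j k)) (wj : ∀ j k, gj j k ≫ v' j = u' k.1) :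
    Nonempty (Model u' gj E) := by
  have hw : ∀ j (k : Over' α j), 𝟙 (U k.1) ≫ u' k.1 = gj j k ≫ v' j := fun j k => by
    rw [Category.id_comp, wj]
  let P : ∀ j, SchDDFam (gj j) := fun j =>
    (pullDDFam (f := u') (f' := gj j) (α := Subtype.val) (p := v' j) (p' := fun k => 𝟙 (U k.1)) (hw j)).obj E
  choose W eW using fun j => isEffective_of_openImmersion (gj j) (ho j) (hcov j) (P j)
  let e : ∀ j, (toDDFam (gj j)).obj (W j) ≅ P j := fun j => (eW j).some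
  have cond : ∀ {T : Scheme.{u}} {j : κ} (k : Over' α j) (y : T ⟶ U k.1) (x : T ⟶ V j)
      (_ : y ≫ gj j k = x) (w : Lifts (W j) x), y ≫ gj j k = w.1 ≫ (W j).hom :=
    fun k y x h w => h.trans w.2.symm
  let el : ∀ j (k : Over' α j), pullback (gj j k) (W j).hom ⟶ pullback (E.obj k.1).hom (𝟙 (U k.1)) :=
    fun j k => ((e j).hom.hom k).left
  let el' : ∀ j (k : Over' α j), pullback (E.obj k.1).hom (𝟙 (U k.1)) ⟶ pullback (gj j k) (W j).hom :=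
    fun j k => ((e j).inv.hom k).left
  have hel : ∀ j k, el j k ≫ pullback.snd (E.obj k.1).hom (𝟙 (U k.1)) = pullback.fst (gj j k) (W j).hom :=
    fun j k => Over.w ((e j).hom.hom k)
  let m : ∀ j (k : Over' α j), pullback (gj j k) (W j).hom ⟶ (E.obj k.1).left := fun j k =>
    el j k ≫ pullback.fst (E.obj k.1).hom (𝟙 (U k.1))
  have hm : ∀ j k, m j k ≫ (E.obj k.1).hom = pullback.fst (gj j k) (W j).hom := fun j k => by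
    show (_ ≫ _) ≫ _ = _
    rw [Category.assoc, pullback.condition, Category.comp_id, hel]
  haveI hiso : ∀ j k, IsIso (m j k) := fun j k => by
    haveI : IsIso (el j k) := ⟨el' j k, congrArg (fun f => (SchDDFam.Hom.hom f k).left) (e j).hom_inv_id,
      congrArg (fun f => (SchDDFam.Hom.hom f k).left) (e j).inv_hom_id⟩
    exact (inferInstance : IsIso (el j k ≫ pullback.fst _ _))
  have hminv : ∀ j k, inv (m j k) ≫ pullback.fst (gj j k) (W j).hom = (E.obj k.1).hom := fun j k => by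
    rw [← hm j k, IsIso.inv_hom_id_assoc]
  refine ⟨⟨W, fun T j k y x h =>
    { toFun := fun w => ⟨pullback.lift y w.1 (cond k y x h w) ≫ m j k, by
        rw [Category.assoc, hm, pullback.lift_fst]⟩
      invFun := fun z => ⟨z.1 ≫ inv (m j k) ≫ pullback.snd _ _, by
        rw [Category.assoc, Category.assoc, ← pullback.condition, reassoc_of% (hminv j k), ← Category.assoc,
          z.2, h]⟩
      left_inv := fun w => Subtype.ext (by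
        show (_ ≫ m j k) ≫ _ = w.1
        rw [Category.assoc, IsIso.hom_inv_id_assoc]
        exact pullback.lift_snd _ _ _)
      right_inv := fun z => Subtype.ext (by
        show pullback.lift y _ _ ≫ m j k = z.1
        rw [← IsIso.eq_comp_inv]
        refine pullback.hom_ext ?_ ?_
        · rw [pullback.lift_fst, Category.assoc, hminv, z.2]
        · rw [pullback.lift_snd]; simp only [Category.assoc]) }, ?_, ?_⟩⟩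
  · intro T T' r j k y x h y' x' hy' hx' h' w w' hw'
    show pullback.lift y' w'.1 _ ≫ m j k = r ≫ pullback.lift y w.1 _ ≫ m j k
    rw [← Category.assoc r]
    congr 1
    exact pullback.hom_ext (by rw [pullback.lift_fst, Category.assoc, pullback.lift_fst, hy'])
      (by rw [pullback.lift_snd, Category.assoc, pullback.lift_snd, hw'])
  · intro T j k k' y y' x h h' hu w
    have hyy : y ≫ gj j k = y' ≫ gj j k' := h.trans h'.symm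
    let l : Lifts (((toDDFam (gj j)).obj (W j)).obj k) y :=
      ⟨pullback.lift y w.1 (cond k y x h w), pullback.lift_fst _ _ _⟩
    have h1 := (e j).hom.comm y y' hyy l ((e j).hom.push l) rfl
    have h2 := congrArg (· ≫ pullback.fst (E.obj k'.1).hom (𝟙 (U k'.1))) h1
    refine Subtype.ext ?_
    have h3 : ((((toDDFam (gj j)).obj (W j)).φ y y' hyy l).1) =
        pullback.lift y' w.1 (cond k' y' x h' w) :=
      pullback.hom_ext ((pullback.lift_fst _ _ _).trans (pullback.lift_fst _ _ _).symm)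
        ((pullback.lift_snd _ _ _).trans ((pullback.lift_snd _ _ _).trans (pullback.lift_snd _ _ _).symm))
    refine Eq.trans ?_ ((h2.trans (Category.assoc _ _ _)).trans (congrArg (· ≫ m j k') h3))
    refine Eq.trans ?_ (pullback.lift_fst _ _ _).symm
    exact (E.φ_natural (𝟙 T) (y ≫ 𝟙 _) (y' ≫ 𝟙 _) (by rw [Category.comp_id, Category.comp_id, hu]) y y'
      (by rw [Category.id_comp, Category.comp_id]) (by rw [Category.id_comp, Category.comp_id]) hu _ _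
      (by rw [Category.id_comp]; exact (Category.assoc _ _ _).symm)).trans (Category.id_comp _)

end Groth.Agent.SchDescZarLib
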