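import Groth.Agent.SchDesc.Pull
import Groth.Agent.SchDesc.Glue
import Groth.Agent.SchDesc.Effective

/-!
# Descent data along a morphism with a section
-/

set_option autoImplicit false
set_option linter.style.haveILetI false
set_option backward.isDefEq.respectTransparency false
universe u
open CategoryTheory CategoryTheory.Limits AlgebraicGeometry

namespace Groth.Agent.SchDescZarLib

open Groth.Agent.SchDesc

variable {X S : Scheme.{u}} {p : X ⟶ S}

/-- A datum along a split morphism has a quotient. -/
theorem quot_of_section (s : S ⟶ X) (hs : s ≫ p = 𝟙 S) (D : _root_.Desc.SchDD p) :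
    Nonempty (Quot D ⊤) := by
  let ι := (⊤ : D.obj.left.Opens).ι
  have hx : ι ≫ D.obj.hom ≫ p = (ι ≫ D.obj.hom ≫ p ≫ s) ≫ p := by
    simp only [Category.assoc, hs, Category.comp_id]
  let a := move D ι (ι ≫ D.obj.hom ≫ p ≫ s) hx
  have ha : a ≫ D.obj.hom = (ι ≫ D.obj.hom ≫ p) ≫ s := by
    rw [move_hom]; simp only [Category.assoc]
  let π : ((⊤ : D.obj.left.Opens) : Scheme.{u}) ⟶ pullback D.obj.hom s :=
    pullback.lift a (ι ≫ D.obj.hom ≫ p) ha
  have hy : (pullback.snd p (pullback.snd D.obj.hom s) ≫ pullback.fst D.obj.hom s) ≫ D.obj.hom ≫ p =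
      pullback.fst p (pullback.snd D.obj.hom s) ≫ p := by
    simp only [Category.assoc, pullback.condition_assoc, hs, Category.comp_id]
    exact pullback.condition.symm
  let back : pullback p (pullback.snd D.obj.hom s) ⟶ ((⊤ : D.obj.left.Opens) : Scheme.{u}) :=
    move D _ _ hy ≫ (Scheme.topIso _).inv
  have hback : back ≫ ι = move D _ _ hy := by
    show (_ ≫ (Scheme.topIso _).inv) ≫ ι = _
    rw [Category.assoc, show ι = (Scheme.topIso D.obj.left).hom from (Scheme.topIso_hom _).symm,
      Iso.inv_hom_id, Category.comp_id]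
  have w0 : (ι ≫ D.obj.hom) ≫ p = π ≫ pullback.snd D.obj.hom s := by
    rw [pullback.lift_snd, Category.assoc]
  let m : ((⊤ : D.obj.left.Opens) : Scheme.{u}) ⟶ pullback p (pullback.snd D.obj.hom s) :=
    pullback.lift (ι ≫ D.obj.hom) π w0
  have h1 : m ≫ back = 𝟙 _ := by
    rw [← cancel_mono ι, Category.assoc, hback, move_comp, Category.id_comp]
    have e1 : m ≫ pullback.snd p (pullback.snd D.obj.hom s) ≫ pullback.fst D.obj.hom s = a := by
      rw [pullback.lift_snd_assoc, pullback.lift_fst]
    refine (move_congr₂ (v' := a) e1 (pullback.lift_fst _ _ _)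
      (h' := by
        rw [← Category.assoc, move_hom]; simp only [Category.assoc, hs, Category.comp_id])).trans ?_
    rw [move_move D ι _ _ hx _ (by simp only [Category.assoc])]
    exact move_self D ι _ _ rfl
  have h2 : back ≫ m = 𝟙 _ := by
    apply pullback.hom_ext
    · rw [Category.assoc, pullback.lift_fst, ← Category.assoc, hback, move_hom, Category.id_comp]
    · rw [Category.assoc, pullback.lift_snd, Category.id_comp]
      apply pullback.hom_ext
      · rw [Category.assoc, pullback.lift_fst, move_comp]
        have e2 : back ≫ ι ≫ D.obj.hom ≫ p ≫ s =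
            (pullback.snd p (pullback.snd D.obj.hom s) ≫ pullback.fst D.obj.hom s) ≫ D.obj.hom := by
          rw [← Category.assoc back, hback, ← Category.assoc, move_hom]
          simp only [Category.assoc, pullback.condition]
          rw [← Category.assoc, pullback.condition, Category.assoc]
        refine (move_congr₂ hback e2 (h' := by rw [reassoc_of% (move_hom D _ _ hy)]; simp only [Category.assoc] at hy ⊢; rw [hy])).trans ?_
        rw [move_move D _ _ _ hy _ (by simp only [Category.assoc])]
        exact move_self D _ _ _ rfl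
      · rw [Category.assoc, pullback.lift_snd, ← Category.assoc, hback, ← Category.assoc, move_hom]
        exact pullback.condition
  refine ⟨⟨pullback D.obj.hom s, pullback.snd _ _, π, ?_, stable_top, fun t t' x h e => ?_⟩⟩
  · exact IsPullback.of_iso_pullback ⟨w0⟩ ⟨m, back, h1, h2⟩ (pullback.lift_fst _ _ _) (pullback.lift_snd _ _ _)
  · have e' : t' ≫ ι = move D (t ≫ ι) x h := e.symm
    apply pullback.hom_ext
    · rw [Category.assoc, Category.assoc, pullback.lift_fst, move_comp, move_comp]
      refine Eq.trans ?_ (move_congr₂ (e'.symm) (rfl : t' ≫ ι ≫ D.obj.hom ≫ p ≫ s = _)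
        (h := by rw [reassoc_of% (move_hom D (t ≫ ι) x h), reassoc_of% e', reassoc_of% (move_hom D (t ≫ ι) x h)]; simp only [Category.assoc, hs, Category.comp_id]))
      have hxx : x ≫ p = t ≫ ι ≫ D.obj.hom ≫ p := by rw [← h, Category.assoc]
      rw [move_move D (t ≫ ι) x _ h _ (by
        rw [reassoc_of% e', reassoc_of% (move_hom D (t ≫ ι) x h)]
        exact h.trans (by simp only [Category.assoc, hs, Category.comp_id]))]
      refine move_congr₂ rfl ?_
      rw [reassoc_of% e', reassoc_of% (move_hom D (t ≫ ι) x h), ← Category.assoc x, hxx]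
      simp only [Category.assoc]
    · rw [Category.assoc, Category.assoc, pullback.lift_snd, reassoc_of% e',
        reassoc_of% (move_hom D (t ≫ ι) x h), ← h, Category.assoc]

end Groth.Agent.SchDescZarLib
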