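import Groth.Agent.SchDescZarLib.Split
import Groth.Agent.SchDesc.Family

/-!
# Descent data for schemes relative to open covers are effective
-/

set_option autoImplicit false
set_option linter.style.haveILetI false
universe u
open CategoryTheory CategoryTheory.Limits AlgebraicGeometry

namespace Groth.Agent.SchDescZarLib

open Groth.Agent.SchDesc

/-- Effective descent for open covers. -/
theorem isEffective_of_openImmersion {S : Scheme.{u}} {I : Type u} {X : I → Scheme.{u}} (f : ∀ i, X i ⟶ S)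
    (ho : ∀ i, IsOpenImmersion (f i)) (hsurj : ∀ s : S, ∃ i, s ∈ Set.range (f i))
    (D : _root_.Desc.SchDDFam f) : D.IsEffective := by
  haveI : Flat (Sigma.desc f) := IsZariskiLocalAtSource.sigmaDesc fun i => inferInstance
  haveI : LocallyOfFinitePresentation (Sigma.desc f) := IsZariskiLocalAtSource.sigmaDesc fun i => inferInstance
  haveI : Surjective (Sigma.desc f) := ⟨fun s => by
    obtain ⟨i, x, rfl⟩ := hsurj s
    exact ⟨Sigma.ι X i x, by rw [← Scheme.Hom.comp_apply, Sigma.ι_desc]⟩⟩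
  haveI := IsFpqc.of_locallyOfFinitePresentation (Sigma.desc f)
  obtain ⟨Q⟩ := quot_top (D := sigmaDD D) fun v => by
    let p := Sigma.desc f
    obtain ⟨i, hi⟩ := hsurj (p ((sigmaDD D).obj.hom v))
    let S₀ := (f i).opensRange
    refine ⟨(sigmaDD D).obj.hom ⁻¹ᵁ p ⁻¹ᵁ S₀, hi, ?_⟩
    let s₀ : (S₀ : Scheme.{u}) ⟶ ∐ X := (f i).isoOpensRange.inv ≫ Sigma.ι X i
    have hs₀ : s₀ ≫ p = S₀.ι := by
      simp only [s₀, p, Category.assoc, Sigma.ι_desc]
      rw [Iso.inv_comp_eq]
      exact (Scheme.Hom.isoOpensRange_hom_ι _).symm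
    have hsub : Set.range s₀ ⊆ Set.range (p ⁻¹ᵁ S₀).ι := by
      rintro _ ⟨z, rfl⟩
      rw [Scheme.Opens.range_ι]
      show p (s₀ z) ∈ S₀
      rw [← Scheme.Hom.comp_apply, hs₀]
      exact z.2
    let s := IsOpenImmersion.lift (p ⁻¹ᵁ S₀).ι s₀ hsub
    have hs : s ≫ (p ∣_ S₀) = 𝟙 _ := by
      rw [← cancel_mono S₀.ι, Category.assoc, morphismRestrict_ι, Category.id_comp, ← Category.assoc,
        IsOpenImmersion.lift_fac, hs₀]
    obtain ⟨Q⟩ := quot_of_section s hs
      (pull (sigmaDD D) (p ⁻¹ᵁ S₀).ι (morphismRestrict_ι p S₀).symm)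
    exact quot_of_pull_open _ S₀ Q
  exact isEffective_of_sigmaDD D Q.effective

end Groth.Agent.SchDescZarLib
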